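import Cfsg.Agent.Lib.Recognition.JankoOvergroup.Setup
import Cfsg.Agent.Lib.Fusion.Transfer
import Cfsg.Agent.Lib.Involution.ZStar.Main
import Cfsg.Agent.S0223
import Cfsg.Agent.S1141
import Cfsg.Prelude.Def_Exceptional

/-!
# The centraliser of an involution of Janko–Ree type is maximal, given Bender's theorem

An overgroup `M` of `C = C(t)` either has `t` isolated, and then the `Z*` theorem and the action
of the four-groups on the odd core give `M ≤ C`, or it is strongly embedded.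
-/

set_option autoImplicit false
set_option linter.unusedSectionVars false
set_option linter.style.haveILetI false

open Subgroup

namespace CfsgLib.Recognition.JankoOvergroup

universe u

variable {G : Type u} [Group G] [Finite G]

/-- An involution acting without fixed points on a finite subgroup inverts it. -/
theorem inverts_of_fpf {X : Subgroup G} {s : G} (hs : s * s = 1) (hn : ∀ x ∈ X, s * x * s⁻¹ ∈ X)
    (hf : ∀ x ∈ X, s * x = x * s → x = 1) : ∀ x ∈ X, s * x * s⁻¹ = x⁻¹ := by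
  have hsi : s⁻¹ = s := inv_eq_of_mul_eq_one_right hs
  let f : X → X := fun x => ⟨s * x * s⁻¹ * (x : G)⁻¹, mul_mem (hn _ x.2) (inv_mem x.2)⟩
  have hinj : Function.Injective f := by
    intro a b h
    have h' : s * a * s⁻¹ * (a : G)⁻¹ = s * b * s⁻¹ * (b : G)⁻¹ := congrArg Subtype.val h
    have e : s * ((b : G)⁻¹ * a) * s⁻¹ = (b : G)⁻¹ * a := by
      calc s * ((b : G)⁻¹ * a) * s⁻¹ = (s * b * s⁻¹)⁻¹ * (s * a * s⁻¹ * (a : G)⁻¹) * a := by group
        _ = (b : G)⁻¹ * a := by rw [h']; group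
    have h1 := hf _ (mul_mem (inv_mem b.2) a.2) (mul_inv_eq_iff_eq_mul.1 e)
    exact Subtype.ext (inv_mul_eq_one.1 h1).symm
  intro x hx
  obtain ⟨z, hz⟩ := Finite.injective_iff_surjective.1 hinj ⟨x, hx⟩
  have hz' : s * z * s⁻¹ * (z : G)⁻¹ = x := congrArg Subtype.val hz
  rw [← hz']
  calc s * (s * z * s⁻¹ * (z : G)⁻¹) * s⁻¹ = (s * s) * z * (s⁻¹ * ((z : G)⁻¹ * s⁻¹)) := by group
    _ = (s * z * s⁻¹ * (z : G)⁻¹)⁻¹ := by rw [hs, mul_inv_rev, mul_inv_rev, mul_inv_rev, inv_inv, inv_inv, hsi]; group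

theorem not_even_of_odd_top {t : G} (ht : orderOf t = 2) (h : Odd (Nat.card (⊤ : Subgroup G))) :
    False := by
  have := h.of_dvd_nat (Subgroup.orderOf_dvd_natCard _ (mem_top t))
  rw [ht] at this
  exact absurd this (by decide)

variable {t g : G} {S : Sylow 2 G} {N V : Subgroup G}

namespace Data

variable (D : Data t S N V g)
include D

theorem t_sq : t * t = 1 := by rw [← pow_two, ← D.ht, pow_orderOf_eq_one]

theorem t_ne : t ≠ 1 := fun h => by
  have := D.ht
  rw [h, orderOf_one] at this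
  omega

theorem scomm : ∀ a ∈ (S : Subgroup G), ∀ b ∈ (S : Subgroup G), a * b = b * a := fun a ha b hb =>
  congrArg Subtype.val ((D.hab S).is_comm.comm ⟨a, ha⟩ ⟨b, hb⟩)

theorem s_le : (S : Subgroup G) ≤ centralizer ({t} : Set G) := fun s hs =>
  mem_centralizer_singleton_iff.2 (D.scomm s hs t D.htS)

theorem tc {c : G} (hc : c ∈ centralizer ({t} : Set G)) : t * c = c * t :=
  (mem_centralizer_singleton_iff.1 hc).symm

theorem s_sq : ∀ s ∈ (S : Subgroup G), s * s = 1 := fun s hs => by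
  rcases D.hdS s hs with h | h
  · exact D.hV2 s h
  · have h1 := D.hV2 _ h
    have e := D.scomm t D.htS s hs
    calc s * s = (t * t) * (s * s) := by rw [D.t_sq, one_mul]
      _ = t * (t * s) * s := by group
      _ = t * (s * t) * s := by rw [e]
      _ = t * s * (t * s) := by group
      _ = 1 := h1

theorem card_s_le : Nat.card ↥(S : Subgroup G) ≤ 8 := by
  let f : V ⊕ V → (S : Subgroup G) := Sum.elim (fun v => ⟨v, D.hVS v.2⟩)
    (fun v => ⟨t * v, mul_mem D.htS (D.hVS v.2)⟩)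
  have hf : Function.Surjective f := by
    rintro ⟨s, hs⟩
    rcases D.hdS s hs with h | h
    · exact ⟨Sum.inl ⟨s, h⟩, rfl⟩
    · refine ⟨Sum.inr ⟨_, h⟩, Subtype.ext ?_⟩
      show t * (t * s) = s
      rw [← mul_assoc, D.t_sq, one_mul]
  have := Nat.card_le_card_of_surjective f hf
  rwa [Nat.card_sum, D.hV4] at this

/-- The three involutions of `V` form one orbit of `g`. -/
theorem orbit3 {a : G} (ha : a ∈ V) (ha1 : a ≠ 1) {b : G} (hb : b ∈ V) (hb1 : b ≠ 1) :
    b = a ∨ b = g * a * g⁻¹ ∨ b = g * (g * a * g⁻¹) * g⁻¹ := by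
  have h1 := D.hgV _ ha
  have h11 : g * a * g⁻¹ ≠ 1 := fun e => ha1 (conj_eq_one_iff.1 e)
  have h2 := D.hgV _ h1
  have h21 : g * (g * a * g⁻¹) * g⁻¹ ≠ 1 := fun e => h11 (conj_eq_one_iff.1 e)
  have n1 : g * a * g⁻¹ ≠ a := fun e => ha1 (D.hgfix a ha e)
  have n2 : g * (g * a * g⁻¹) * g⁻¹ ≠ g * a * g⁻¹ := fun e => h11 (D.hgfix _ h1 e)
  have n3 : g * (g * a * g⁻¹) * g⁻¹ ≠ a := fun e => by
    have hg3 : g ^ 3 = 1 := by rw [← D.hg3, pow_orderOf_eq_one]
    refine n1 ?_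
    calc g * a * g⁻¹ = g * (g * (g * a * g⁻¹) * g⁻¹) * g⁻¹ := by rw [e]
      _ = g ^ 3 * a * (g ^ 3)⁻¹ := by rw [pow_succ, pow_two]; group
      _ = a := by rw [hg3]; group
  have hsub : ({a, g * a * g⁻¹, g * (g * a * g⁻¹) * g⁻¹} : Set G) ⊆ (V : Set G) \ {1} := by
    rintro x (rfl | rfl | rfl)
    · exact ⟨ha, ha1⟩
    · exact ⟨h1, h11⟩
    · exact ⟨h2, h21⟩
  have heq := Set.eq_of_subset_of_ncard_le hsub (by
    rw [Set.ncard_sdiff_singleton_of_mem (one_mem V),
      Set.ncard_eq_three.2 ⟨a, _, _, Ne.symm n1, Ne.symm n3, Ne.symm n2, rfl⟩]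
    rw [show (V : Set G).ncard = 4 from D.hV4])
  have hbm : b ∈ (V : Set G) \ {1} := ⟨hb, hb1⟩
  rw [← heq] at hbm
  exact hbm

theorem vfour {a b : G} (ha : a ∈ V) (ha1 : a ≠ 1) (hb : b ∈ V) (hb1 : b ≠ 1) (hab' : a ≠ b) :
    ∀ v ∈ V, v = 1 ∨ v = a ∨ v = b ∨ v = a * b := by
  intro v hv
  by_contra h
  push Not at h
  obtain ⟨h1, h2, h3, h4⟩ := h
  have hsub : ({a, b, a * b, v} : Set G) ⊆ (V : Set G) \ {1} := by
    have hab1 : a * b ≠ 1 := fun e => hab' ((eq_inv_of_mul_eq_one_left e).trans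
      (inv_eq_of_mul_eq_one_right (D.hV2 b hb)))
    rintro x (rfl | rfl | rfl | rfl)
    · exact ⟨ha, ha1⟩
    · exact ⟨hb, hb1⟩
    · exact ⟨mul_mem ha hb, hab1⟩
    · exact ⟨hv, h1⟩
  have := Set.ncard_le_ncard hsub
  rw [Set.ncard_sdiff_singleton_of_mem (one_mem V), show (V : Set G).ncard = 4 from D.hV4] at this
  have hc : ({a, b, a * b, v} : Set G).ncard = 4 := by
    rw [Set.ncard_insert_of_notMem (by
        simp only [Set.mem_insert_iff, Set.mem_singleton_iff, not_or]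
        exact ⟨hab', fun e => hb1 (left_eq_mul.1 e), Ne.symm h2⟩),
      Set.ncard_eq_three.2 ⟨b, a * b, v, fun e => ha1 (right_eq_mul.1 e), Ne.symm h3, Ne.symm h4, rfl⟩]
  omega

/-- The inverted odd subgroups of `C` normalised by `C ∩ C(a)` are trivial. -/
theorem core {Y : Subgroup G} (hYC : Y ≤ centralizer ({t} : Set G)) (hYo : Odd (Nat.card Y))
    {a : G} (haS : a ∈ S) (ha1 : a ≠ 1) (hat : a ≠ t) (hinv : ∀ y ∈ Y, a * y * a⁻¹ = y⁻¹)
    (hnorm : ∀ c ∈ centralizer ({t} : Set G), c * a = a * c → ∀ y ∈ Y, c * y * c⁻¹ ∈ Y) :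
    Y = ⊥ := by
  obtain ⟨a', ha'V, ha'1, hconj, hcomm⟩ : ∃ a' ∈ V, a' ≠ 1 ∧
      (∀ x ∈ centralizer ({t} : Set G), a' * x * a'⁻¹ = a * x * a⁻¹) ∧
      ∀ c ∈ centralizer ({t} : Set G), c * a' = a' * c → c * a = a * c := by
    rcases D.hdS a haS with h | h
    · exact ⟨a, h, ha1, fun _ _ => rfl, fun _ _ e => e⟩
    · refine ⟨t * a, h, fun e => hat ((eq_inv_of_mul_eq_one_right e).trans
        (inv_eq_of_mul_eq_one_right D.t_sq)), fun x hx => ?_, fun c hc e => ?_⟩
      · have : a * x * a⁻¹ ∈ centralizer ({t} : Set G) :=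
          mul_mem (mul_mem (D.s_le haS) hx) (inv_mem (D.s_le haS))
        calc t * a * x * (t * a)⁻¹ = t * (a * x * a⁻¹) * t⁻¹ := by group
          _ = a * x * a⁻¹ := mul_inv_eq_iff_eq_mul.2 (D.tc this)
      · refine mul_left_cancel (a := t) ?_
        rw [← mul_assoc, D.tc hc, mul_assoc, e, mul_assoc]
  have hVC : V ≤ centralizer ({t} : Set G) := D.hVS.trans D.s_le
  have hNC := D.hNC
  have hinv' : ∀ y ∈ Y, a' * y * a'⁻¹ = y⁻¹ := fun y hy => (hconj y (hYC hy)).trans (hinv y hy)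
  have ha'i : a'⁻¹ = a' := inv_eq_of_mul_eq_one_right (D.hV2 a' ha'V)
  have hYN : ∀ y ∈ Y, y ∈ N := by
    intro y hy
    obtain ⟨i, hi⟩ := Cfsg.Agent.S3206.odd_mem_zpowers_sq (odd_orderOf hYo hy)
    rw [← hi]
    refine zpow_mem ?_ i
    have e : y ^ 2 = y * a' * y⁻¹ * a' := by
      have h := hinv' y⁻¹ (inv_mem hy)
      rw [inv_inv, ha'i] at h
      calc y ^ 2 = y * y := pow_two y
        _ = y * (a' * y⁻¹ * a') := by rw [h]
        _ = _ := by group
    rw [e]
    exact mul_mem (D.hNn y (hYC hy) a' (D.hVN ha'V)) (D.hVN ha'V)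
  have hYab : ∀ y ∈ Y, ∀ z ∈ Y, y * z = z * y := by
    intro y hy z hz
    have h : a' * (y * z) * a'⁻¹ = (a' * y * a'⁻¹) * (a' * z * a'⁻¹) := by group
    rw [hinv' _ (mul_mem hy hz), hinv' y hy, hinv' z hz, ← mul_inv_rev] at h
    exact inv_injective h
  rw [eq_bot_iff]
  intro y hy
  rw [mem_bot]
  by_contra hy1
  have hyo := odd_orderOf hYo hy
  obtain ⟨b0, hb0V, hb01, hb0a, hb0y⟩ :
      ∃ b0 ∈ V, b0 ≠ 1 ∧ b0 ≠ a' ∧ ∀ z ∈ Y, b0 * z = z * b0 := by
    set b := g * a' * g⁻¹ with hb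
    have hbV : b ∈ V := D.hgV _ ha'V
    have hb1 : b ≠ 1 := fun e => ha'1 (conj_eq_one_iff.1 e)
    have hba : b ≠ a' := fun e => ha'1 (D.hgfix _ ha'V e)
    have hbn : ∀ z ∈ Y, b * z * b⁻¹ ∈ Y :=
      hnorm b (hVC hbV) (hcomm b (hVC hbV) (comm_of_square D.hV2 b hbV a' ha'V))
    by_cases hfix : ∀ z ∈ Y, b * z = z * b → z = 1
    · have hbi := inverts_of_fpf (D.hV2 b hbV) hbn hfix
      refine ⟨b * a', mul_mem hbV ha'V, fun e => hba ?_, fun e => hb1 (mul_eq_right.1 e), fun z hz => ?_⟩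
      · rw [eq_inv_of_mul_eq_one_left e, ha'i]
      · refine mul_inv_eq_iff_eq_mul.1 ?_
        calc b * a' * z * (b * a')⁻¹ = b * (a' * z * a'⁻¹) * b⁻¹ := by group
          _ = z := by rw [hinv' z hz, hbi _ (inv_mem hz), inv_inv]
    · push Not at hfix
      obtain ⟨z0, hz0, hbz0, hz01⟩ := hfix
      exact ⟨b, hbV, hb1, hba, fun z hz => D.hcc z0 (hYN z0 hz0) hz01 (odd_orderOf hYo hz0) b
        (D.hVN hbV) z (hYN z hz) hbz0 (hYab z hz z0 hz0)⟩
  have hself : ∀ d ∈ N, d * a' = a' * d → d ∈ V := by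
    intro d hd hda
    have hdn := hnorm d (hNC hd) (hcomm d (hNC hd) hda)
    set e := d⁻¹ * b0 * d with he
    have heN : e ∈ N := mul_mem (mul_mem (inv_mem hd) (D.hVN hb0V)) hd
    have hey : e * y = y * e := by
      have h := hb0y _ (hdn y hy)
      calc e * y = d⁻¹ * (b0 * (d * y * d⁻¹)) * d := by rw [he]; group
        _ = d⁻¹ * ((d * y * d⁻¹) * b0) * d := by rw [h]
        _ = y * e := by rw [he]; group
    have heb : e * b0 = b0 * e :=
      D.hcc y (hYN y hy) hy1 hyo e heN b0 (D.hVN hb0V) hey (hb0y y hy)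
    have hea : e * a' = a' * e := by
      have h1 : Commute d a' := hda
      have h2 : Commute b0 a' := comm_of_square D.hV2 b0 hb0V a' ha'V
      exact ((h1.inv_left.mul_left h2).mul_left h1).eq
    have heV : e ∈ V := D.hCV e heN fun v hv => by
      rcases D.vfour ha'V ha'1 hb0V hb01 (Ne.symm hb0a) v hv with rfl | rfl | rfl | rfl
      · rw [mul_one, one_mul]
      · exact hea
      · exact heb
      · exact ((show Commute e a' from hea).mul_right heb).eq
    have hb0d : d * e * d⁻¹ = b0 := by rw [he]; group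
    rcases D.vfour ha'V ha'1 hb0V hb01 (Ne.symm hb0a) e heV with h | h | h | h
    · refine absurd ?_ hb01
      rw [← hb0d, h]; group
    · refine absurd ?_ hb0a
      rw [← hb0d, h, hda]; group
    · refine D.hCV d hd fun v hv => ?_
      have hdb : d * b0 = b0 * d := by
        have := hb0d; rw [h] at this; exact mul_inv_eq_iff_eq_mul.1 this
      rcases D.vfour ha'V ha'1 hb0V hb01 (Ne.symm hb0a) v hv with rfl | rfl | rfl | rfl
      · rw [mul_one, one_mul]
      · exact hda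
      · exact hdb
      · exact ((show Commute d a' from hda).mul_right hdb).eq
    · exfalso
      have hay : a' * y = y * a' := by
        have h1 : Commute (a' * b0) y := h ▸ hey
        have h2 : Commute b0 y := hb0y y hy
        have h3 := h1.mul_left h2
        rw [mul_assoc, D.hV2 b0 hb0V, mul_one] at h3
        exact h3.eq
      have h4 := hinv' y hy
      rw [hay, mul_inv_cancel_right] at h4
      exact hy1 (eq_one_of_odd hyo (mul_eq_one_iff_eq_inv.2 h4))
  have key : ∀ h ∈ N, (∀ v ∈ V, h * v * h⁻¹ ∈ V) → h * a' * h⁻¹ = b0 → False := by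
    intro h hh hhV hhb
    have hc : (h⁻¹ * y * h) * a' = a' * (h⁻¹ * y * h) := by
      calc h⁻¹ * y * h * a' = h⁻¹ * (y * (h * a' * h⁻¹)) * h := by group
        _ = h⁻¹ * ((h * a' * h⁻¹) * y) * h := by rw [hhb, hb0y y hy]
        _ = a' * (h⁻¹ * y * h) := by group
    have hm := hhV _ (hself _ (mul_mem (mul_mem (inv_mem hh) (hYN y hy)) hh) hc)
    rw [show h * (h⁻¹ * y * h) * h⁻¹ = y by group] at hm
    exact hy1 (eq_one_of_odd hyo (D.hV2 y hm))
  rcases D.orbit3 ha'V ha'1 hb0V hb01 with h | h | h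
  · exact hb0a h
  · exact key g D.hgN D.hgV h.symm
  · refine key (g * g) (mul_mem D.hgN D.hgN) (fun v hv => ?_) ?_
    · have := D.hgV _ (D.hgV v hv)
      rwa [show g * g * v * (g * g)⁻¹ = g * (g * v * g⁻¹) * g⁻¹ by group]
    · rw [h]; group

theorem g_mem_centralizer : g ∈ centralizer ({t} : Set G) := D.hNC D.hgN

theorem g_mem_normalizer : g ∈ normalizer ((S : Subgroup G) : Set G) := by
  refine mem_normalizer_iff_map_conj_eq.2 (eq_of_le_of_card_ge ?_ ?_)
  · rintro _ ⟨s, hs, rfl⟩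
    show g * s * g⁻¹ ∈ S
    rcases D.hdS s hs with h | h
    · exact D.hVS (D.hgV s h)
    · have e : g * s * g⁻¹ = t * (g * (t * s) * g⁻¹) := by
        calc g * s * g⁻¹ = (t * t) * g * s * g⁻¹ := by rw [D.t_sq, one_mul]
          _ = t * (t * g) * s * g⁻¹ := by group
          _ = t * (g * t) * s * g⁻¹ := by rw [D.tc D.g_mem_centralizer]
          _ = _ := by group
      rw [e]
      exact mul_mem D.htS (D.hVS (D.hgV _ h))
  · rw [card_map_of_injective (MulAut.conj g).injective]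

/-- The fusion of `t` inside a subgroup containing `S` and `g`. -/
theorem fuse {K : Subgroup G} (hSK : (S : Subgroup G) ≤ K) (hgK : g ∈ K) :
    (∀ k ∈ K, k * t * k⁻¹ ∈ S → k * t * k⁻¹ = t) ∨
      ∀ s ∈ (S : Subgroup G), s ≠ 1 →
        ∃ k ∈ K, k ∈ normalizer ((S : Subgroup G) : Set G) ∧ k * t * k⁻¹ = s := by
  classical
  haveI : Fact (Nat.Prime 2) := ⟨Nat.prime_two⟩
  set L : Subgroup G := K ⊓ normalizer ((S : Subgroup G) : Set G) with hL
  have hSL : (S : Subgroup G) ≤ L := le_inf hSK le_normalizer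
  letI : MulAction L G := MulAction.compHom G ((MulAut.conj (G := G)).comp L.subtype)
  have hsmul : ∀ (l : L) (x : G), l • x = l * x * (l : G)⁻¹ := fun _ _ => rfl
  have horb : ∀ k ∈ K, k * t * k⁻¹ ∈ S → k * t * k⁻¹ ∈ MulAction.orbit L t := by
    intro k hk hks
    have hcen : ∀ (x : G) (hxS : x ∈ S), (⟨x, hSK hxS⟩ : K) ∈
        centralizer ((S.subtype hSK : Sylow 2 K) : Set K) := fun x hxS =>
      mem_centralizer_iff.2 fun u hu => Subtype.ext (D.scomm u hu x hxS)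
    obtain ⟨n, hn, he⟩ := CfsgLib.Fusion.Transfer.burnside_central (S.subtype hSK)
      (hcen t D.htS) (hcen _ hks) ⟨⟨k, hk⟩, rfl⟩
    refine ⟨⟨n, n.2, ?_⟩, congrArg Subtype.val he⟩
    refine mem_normalizer_iff_map_conj_eq.2 (eq_of_le_of_card_ge ?_ ?_)
    · rintro _ ⟨s, hs, rfl⟩
      exact (Subgroup.mem_normalizer_iff.1 hn ⟨s, hSK hs⟩).1 hs
    · rw [card_map_of_injective (MulAut.conj (n : G)).injective]
  have hodd : Odd (MulAction.orbit L t).ncard := by
    rw [← MulAction.index_stabilizer]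
    refine (?_ : Odd ((S.subtype hSL : Sylow 2 L) : Subgroup L).index).of_dvd_nat (index_dvd_of_le ?_)
    · exact Nat.odd_iff.2 (by have := (S.subtype hSL).not_dvd_index; omega)
    · intro l hl
      rw [MulAction.mem_stabilizer_iff, hsmul]
      exact mul_inv_eq_iff_eq_mul.2 (D.scomm _ hl t D.htS)
  have hmem : ∀ x ∈ MulAction.orbit L t, x ∈ (S : Subgroup G) ∧ x ≠ 1 := by
    rintro _ ⟨l, rfl⟩
    rw [show (fun m : L => m • t) l = l * t * (l : G)⁻¹ from rfl]
    exact ⟨(Subgroup.mem_normalizer_iff.1 l.2.2 t).1 D.htS,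
      fun e => D.t_ne (conj_eq_one_iff.1 e)⟩
  have hgL : g ∈ L := ⟨hgK, D.g_mem_normalizer⟩
  have hgorb : ∀ x ∈ MulAction.orbit L t, g * x * g⁻¹ ∈ MulAction.orbit L t := by
    intro x hx
    exact MulAction.mem_orbit_of_mem_orbit (⟨g, hgL⟩ : L) hx
  by_cases hall : ∀ s ∈ (S : Subgroup G), s ≠ 1 → s ∈ MulAction.orbit L t
  · right
    intro s hs hs1
    obtain ⟨l, hl⟩ := hall s hs hs1
    exact ⟨l, l.2.1, l.2.2, hl⟩
  left
  intro k hk hks
  by_contra hne
  have hx := horb k hk hks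
  -- blocks of the orbit
  have hV' : ∀ a ∈ V, a ≠ 1 → a ∈ MulAction.orbit L t →
      ∀ b ∈ V, b ≠ 1 → b ∈ MulAction.orbit L t := by
    intro a ha ha1 hao b hb hb1
    rcases D.orbit3 ha ha1 hb hb1 with rfl | rfl | rfl
    · exact hao
    · exact hgorb _ hao
    · exact hgorb _ (hgorb _ hao)
  have hgt : ∀ x, g * (t * x) * g⁻¹ = t * (g * x * g⁻¹) := fun x => by
    rw [← mul_assoc g t x, ← D.tc D.g_mem_centralizer]; group
  have htV' : ∀ a ∈ V, a ≠ 1 → t * a ∈ MulAction.orbit L t →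
      ∀ b ∈ V, b ≠ 1 → t * b ∈ MulAction.orbit L t := by
    intro a ha ha1 hao b hb hb1
    rcases D.orbit3 ha ha1 hb hb1 with rfl | rfl | rfl
    · exact hao
    · rw [← hgt]; exact hgorb _ hao
    · rw [← hgt, ← hgt]; exact hgorb _ (hgorb _ hao)
  have hdecS : ∀ x ∈ (S : Subgroup G), x ≠ 1 → x ≠ t →
      (x ∈ V ∧ x ≠ 1) ∨ ∃ a ∈ V, a ≠ 1 ∧ x = t * a := by
    intro x hx hx1 hxt
    rcases D.hdS x hx with h | h
    · exact Or.inl ⟨h, hx1⟩
    · refine Or.inr ⟨_, h, fun e => hxt ((eq_inv_of_mul_eq_one_right e).trans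
        (inv_eq_of_mul_eq_one_right D.t_sq)), ?_⟩
      rw [← mul_assoc, D.t_sq, one_mul]
  -- a single block would make the orbit even
  have hblock : ∀ f : G → G, Function.Injective f → t ∉ f '' ((V : Set G) \ {1}) →
      MulAction.orbit L t = insert t (f '' ((V : Set G) \ {1})) → False := by
    intro f hf htf he
    rw [he, Set.ncard_insert_of_notMem htf, Set.ncard_image_of_injective _ hf,
      Set.ncard_sdiff_singleton_of_mem (one_mem V), show (V : Set G).ncard = 4 from D.hV4] at hodd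
    exact absurd hodd (by decide)
  have ht0 : t ∈ MulAction.orbit L t := MulAction.mem_orbit_self t
  obtain ⟨hxS, hx1⟩ := hmem _ hx
  rcases hdecS _ hxS hx1 hne with ⟨hxV, -⟩ | ⟨a, ha, ha1, hxa⟩
  · by_cases hB : ∃ b ∈ V, b ≠ 1 ∧ t * b ∈ MulAction.orbit L t
    · obtain ⟨b, hb, hb1, hbo⟩ := hB
      refine hall fun s hs hs1 => ?_
      by_cases hst : s = t
      · rw [hst]; exact ht0
      rcases hdecS s hs hs1 hst with ⟨h, -⟩ | ⟨c, hc, hc1, rfl⟩
      · exact hV' _ hxV hx1 hx s h hs1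
      · exact htV' b hb hb1 hbo c hc hc1
    · refine hblock id Function.injective_id ?_ ?_
      · rintro ⟨y, ⟨hy, -⟩, rfl⟩; exact D.htV hy
      · ext y
        constructor
        · intro hy
          by_cases hyt : y = t
          · exact Or.inl hyt
          rcases hdecS y (hmem y hy).1 (hmem y hy).2 hyt with ⟨h, h1⟩ | ⟨c, hc, hc1, rfl⟩
          · exact Or.inr ⟨y, ⟨h, h1⟩, rfl⟩
          · exact absurd ⟨c, hc, hc1, hy⟩ hB
        · rintro (rfl | ⟨c, ⟨hc, hc1⟩, rfl⟩)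
          · exact ht0
          · exact hV' _ hxV hx1 hx c hc hc1
  · rw [hxa] at hx
    by_cases hB : ∃ b ∈ V, b ≠ 1 ∧ b ∈ MulAction.orbit L t
    · obtain ⟨b, hb, hb1, hbo⟩ := hB
      refine hall fun s hs hs1 => ?_
      by_cases hst : s = t
      · rw [hst]; exact ht0
      rcases hdecS s hs hs1 hst with ⟨h, -⟩ | ⟨c, hc, hc1, rfl⟩
      · exact hV' b hb hb1 hbo s h hs1
      · exact htV' a ha ha1 hx c hc hc1
    · refine hblock (fun y => t * y) (mul_right_injective t) ?_ ?_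
      · rintro ⟨y, ⟨-, hy1⟩, e⟩
        exact hy1 (mul_eq_left.1 e)
      · ext y
        constructor
        · intro hy
          by_cases hyt : y = t
          · exact Or.inl hyt
          rcases hdecS y (hmem y hy).1 (hmem y hy).2 hyt with ⟨h, h1⟩ | ⟨c, hc, hc1, rfl⟩
          · exact absurd ⟨y, h, h1, hy⟩ hB
          · exact Or.inr ⟨c, ⟨hc, hc1⟩, rfl⟩
        · rintro (rfl | ⟨c, ⟨hc, hc1⟩, rfl⟩)
          · exact ht0
          · exact htV' a ha ha1 hx c hc hc1

variable [IsSimpleGroup G]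

theorem not_central (hna : ∃ a b : G, a * b ≠ b * a) : ¬ ∀ x : G, t * x = x * t := by
  intro h
  obtain ⟨a, b, hab'⟩ := hna
  rcases IsSimpleGroup.eq_bot_or_eq_top_of_normal (Subgroup.center G) inferInstance with hZ | hZ
  · exact D.t_ne (mem_bot.1 (hZ ▸ Subgroup.mem_center_iff.2 fun x => (h x).symm))
  · exact hab' ((Subgroup.mem_center_iff.1 (hZ ▸ mem_top b)) a)

/-- All involutions of `S` are conjugate to `t` under the normaliser of `S`. -/
theorem fused (hna : ∃ a b : G, a * b ≠ b * a) :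
    ∀ s ∈ (S : Subgroup G), s ≠ 1 →
      ∃ k ∈ normalizer ((S : Subgroup G) : Set G), k * t * k⁻¹ = s := by
  rcases D.fuse (K := ⊤) le_top (mem_top g) with h | h
  · exfalso
    obtain ⟨N', hN', hodd, hcomm⟩ := CfsgLib.Involution.ZStar.exists_odd_normal_of_sylow S D.ht D.htS
      fun x hx => h x (mem_top x) hx
    rcases IsSimpleGroup.eq_bot_or_eq_top_of_normal N' hN' with e | e
    · refine D.not_central hna fun x => ?_
      have h1 := hcomm x
      rw [e, mem_bot] at h1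
      exact mul_inv_eq_iff_eq_mul.1 (mul_inv_eq_one.1 h1)
    · exact not_even_of_odd_top D.ht (e ▸ hodd)
  · intro s hs hs1
    obtain ⟨k, -, hk, he⟩ := h s hs hs1
    exact ⟨k, hk, he⟩

/-- An overgroup of the centraliser in which `t` is isolated is the centraliser. -/
theorem le_of_isolated (hna : ∃ a b : G, a * b ≠ b * a) {M : Subgroup G}
    (hCM : centralizer ({t} : Set G) ≤ M)
    (hiso : ∀ k ∈ M, k * t * k⁻¹ ∈ S → k * t * k⁻¹ = t) : M ≤ centralizer ({t} : Set G) := by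
  haveI : Fact (Nat.Prime 2) := ⟨Nat.prime_two⟩
  have hSM : (S : Subgroup G) ≤ M := D.s_le.trans hCM
  obtain ⟨O', hO', hodd', hcomm'⟩ := CfsgLib.Involution.ZStar.exists_odd_normal_of_sylow
    (S.subtype hSM) (t := ⟨t, hSM D.htS⟩) (by rw [← orderOf_coe]; exact D.ht) D.htS
    (fun k hk => Subtype.ext (hiso k k.2 hk))
  set O : Subgroup G := O'.map M.subtype with hO
  have hoddO : Odd (Nat.card O) := by
    rw [hO, card_map_of_injective M.subtype_injective]; exact hodd'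
  have hOn : ∀ m ∈ M, ∀ x ∈ O, m * x * m⁻¹ ∈ O := by
    rintro m hm _ ⟨x, hx, rfl⟩
    exact ⟨⟨m, hm⟩ * x * ⟨m, hm⟩⁻¹, hO'.conj_mem x hx ⟨m, hm⟩, rfl⟩
  have hOcomm : ∀ m ∈ M, t * m * t⁻¹ * m⁻¹ ∈ O := fun m hm =>
    ⟨_, hcomm' ⟨m, hm⟩, rfl⟩
  have hOM : O ≤ M := by rintro _ ⟨x, -, rfl⟩; exact x.2
  have hOC : ∀ x ∈ O, x ∈ centralizer ({t} : Set G) → x = 1 := by
    intro x hx hxC
    have h := D.hO (centralizer ({t} : Set G) ⊓ O) inf_le_left
      (fun c hc y hy => Subgroup.mem_inf.2 ⟨Subgroup.mul_mem _ (Subgroup.mul_mem _ hc (Subgroup.mem_inf.1 hy).1) (Subgroup.inv_mem _ hc), hOn c (hCM hc) y (Subgroup.mem_inf.1 hy).2⟩)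
      (hoddO.of_dvd_nat (card_dvd_of_le inf_le_right))
    exact mem_bot.1 (h ▸ ⟨hxC, hx⟩)
  have htinv := inverts_of_fpf D.t_sq (hOn t (hSM D.htS))
    fun x hx h => hOC x hx (mem_centralizer_singleton_iff.2 h.symm)
  have hfpf : ∀ s ∈ (S : Subgroup G), s ≠ 1 → s ≠ t → ∀ x ∈ O, s * x = x * s → x = 1 := by
    intro s hs hs1 hst x hx hsx
    obtain ⟨n, hn, hns⟩ := D.fused hna s hs hs1
    set Y : Subgroup G := centralizer ({t} : Set G) ⊓ O.comap (MulAut.conj n).toMonoidHom with hY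
    have haS : n⁻¹ * t * n ∈ S := by
      have hn' : n⁻¹ ∈ normalizer ((S : Subgroup G) : Set G) := inv_mem hn
      have h := (Subgroup.mem_normalizer_iff.1 hn' t).1 D.htS
      rwa [inv_inv] at h
    have hYo : Odd (Nat.card Y) := by
      refine hoddO.of_dvd_nat ?_
      have e : Nat.card ↥(Y.map (MulAut.conj n).toMonoidHom) = Nat.card Y :=
        card_map_of_injective (MulAut.conj n).injective
      rw [← e]
      exact card_dvd_of_le (by rintro _ ⟨y, hy, rfl⟩; exact hy.2)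
    have hbot : Y = ⊥ := by
      refine D.core (Y := Y) (a := n⁻¹ * t * n) inf_le_left hYo haS ?_ ?_ ?_ ?_
      · intro e
        refine D.t_ne ?_
        calc t = n * (n⁻¹ * t * n) * n⁻¹ := by group
          _ = 1 := by rw [e]; group
      · intro e
        refine hst ?_
        rw [← hns]
        conv_lhs => rw [← e]
        group
      · intro y hy
        have h : t * (n * y * n⁻¹) * t⁻¹ = (n * y * n⁻¹)⁻¹ := htinv _ hy.2
        calc n⁻¹ * t * n * y * (n⁻¹ * t * n)⁻¹ = n⁻¹ * (t * (n * y * n⁻¹) * t⁻¹) * n := by group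
          _ = y⁻¹ := by rw [h]; group
      · intro c hc hca y hy
        refine Subgroup.mem_inf.2 ⟨Subgroup.mul_mem _ (Subgroup.mul_mem _ hc (Subgroup.mem_inf.1 hy).1) (Subgroup.inv_mem _ hc), ?_⟩
        have hncn : n * c * n⁻¹ ∈ centralizer ({t} : Set G) := mem_centralizer_singleton_iff.2 (by
          calc n * c * n⁻¹ * t = n * (c * (n⁻¹ * t * n)) * n⁻¹ := by group
            _ = n * ((n⁻¹ * t * n) * c) * n⁻¹ := by rw [hca]
            _ = t * (n * c * n⁻¹) := by group)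
        show n * (c * y * c⁻¹) * n⁻¹ ∈ O
        rw [show n * (c * y * c⁻¹) * n⁻¹ = (n * c * n⁻¹) * (n * y * n⁻¹) * (n * c * n⁻¹)⁻¹ by group]
        exact hOn _ (hCM hncn) _ hy.2
    have hxY : n⁻¹ * x * n ∈ Y := by
      refine ⟨mem_centralizer_singleton_iff.2 ?_, ?_⟩
      · calc n⁻¹ * x * n * t = n⁻¹ * (x * (n * t * n⁻¹)) * n := by group
          _ = n⁻¹ * ((n * t * n⁻¹) * x) * n := by rw [hns, hsx]
          _ = t * (n⁻¹ * x * n) := by group
      · show n * (n⁻¹ * x * n) * n⁻¹ ∈ O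
        rw [show n * (n⁻¹ * x * n) * n⁻¹ = x by group]
        exact hx
    rw [hbot, mem_bot] at hxY
    calc x = n * (n⁻¹ * x * n) * n⁻¹ := by group
      _ = 1 := by rw [hxY]; group
  have hObot : ∀ x ∈ O, x = 1 := by
    intro x hx
    obtain ⟨v, hv, hv1⟩ : ∃ v ∈ V, v ≠ 1 := by
      by_contra h
      push Not at h
      have h4 := D.hV4
      have hb : V = ⊥ := eq_bot_iff.2 fun v hv => mem_bot.2 (h v hv)
      rw [hb, card_bot] at h4
      omega
    have hvS := D.hVS hv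
    have hvt : v ≠ t := fun e => D.htV (e ▸ hv)
    have htvS := mul_mem D.htS hvS
    have htv1 : t * v ≠ 1 := fun e => hvt ((eq_inv_of_mul_eq_one_right e).trans
      (inv_eq_of_mul_eq_one_right D.t_sq))
    have htvt : t * v ≠ t := fun e => hv1 (mul_eq_left.1 e)
    have hvinv := inverts_of_fpf (D.s_sq v hvS) (hOn v (hSM hvS)) (hfpf v hvS hv1 hvt)
    refine hfpf _ htvS htv1 htvt x hx (mul_inv_eq_iff_eq_mul.1 ?_)
    calc t * v * x * (t * v)⁻¹ = t * (v * x * v⁻¹) * t⁻¹ := by group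
      _ = x := by rw [hvinv x hx, htinv _ (inv_mem hx), inv_inv]
  intro m hm
  refine mem_centralizer_singleton_iff.2 (mul_inv_eq_iff_eq_mul.1 ?_).symm
  exact mul_inv_eq_one.1 (hObot _ (hOcomm m hm))

/-- An overgroup fusing the involutions of `S` is strongly embedded. -/
theorem stronglyEmbedded {M : Subgroup G} (hCM : centralizer ({t} : Set G) ≤ M) (hM : M ≠ ⊤)
    (hfus : ∀ s ∈ (S : Subgroup G), s ≠ 1 → ∃ k ∈ M, k * t * k⁻¹ = s) :
    Cfsg.IsStronglyEmbedded M := by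
  haveI : Fact (Nat.Prime 2) := ⟨Nat.prime_two⟩
  have hSM : (S : Subgroup G) ≤ M := D.s_le.trans hCM
  have heven : Even (Nat.card M) :=
    (even_iff_two_dvd).2 (D.ht ▸ Subgroup.orderOf_dvd_natCard _ (hSM D.htS))
  have key : ∀ u ∈ M, orderOf u = 2 → ∃ k ∈ M, k * t * k⁻¹ = u := by
    intro u hu hu2
    obtain ⟨P, hP⟩ := IsPGroup.exists_le_sylow (p := 2) (P := zpowers (⟨u, hu⟩ : M))
      (IsPGroup.of_card (n := 1) (by rw [Nat.card_zpowers, ← orderOf_coe, pow_one]; exact hu2))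
    obtain ⟨m, hm⟩ := MulAction.exists_smul_eq M P (S.subtype hSM)
    have hmu : (m : G) * u * (m : G)⁻¹ ∈ S := by
      have : m * ⟨u, hu⟩ * m⁻¹ ∈ ((S.subtype hSM : Sylow 2 M) : Subgroup M) := by
        rw [← hm]; exact ⟨_, hP (mem_zpowers _), rfl⟩
      exact this
    obtain ⟨k, hk, he⟩ := hfus _ hmu (fun e => by
      rw [conj_eq_one_iff] at e
      rw [e, orderOf_one] at hu2
      omega)
    refine ⟨(m : G)⁻¹ * k, mul_mem (inv_mem m.2) hk, ?_⟩
    calc (m : G)⁻¹ * k * t * ((m : G)⁻¹ * k)⁻¹ = (m : G)⁻¹ * (k * t * k⁻¹) * m := by group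
      _ = u := by rw [he]; group
  refine (Cfsg.Agent.S0223.result M hM heven).2 ⟨fun u hu hu2 c hc => ?_, fun u hu s hs hu2 hs2 _ => ?_⟩
  · obtain ⟨k, hk, rfl⟩ := key u hu hu2
    have h : k⁻¹ * c * k ∈ centralizer ({t} : Set G) := mem_centralizer_singleton_iff.2 (by
      have := mem_centralizer_singleton_iff.1 hc
      calc k⁻¹ * c * k * t = k⁻¹ * (c * (k * t * k⁻¹)) * k := by group
        _ = k⁻¹ * ((k * t * k⁻¹) * c) * k := by rw [this]
        _ = t * (k⁻¹ * c * k) := by group)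
    have := mul_mem (mul_mem hk (hCM h)) (inv_mem hk)
    rwa [show k * (k⁻¹ * c * k) * k⁻¹ = c by group] at this
  · obtain ⟨k, hk, rfl⟩ := key u hu hu2
    obtain ⟨l, hl, rfl⟩ := key s hs hs2
    exact ⟨l * k⁻¹, mul_mem hl (inv_mem hk), by group⟩

/-- None of the groups of Bender's list occurs. -/
theorem not_bender_list
    (h : (∃ (F : Type) (_ : Field F) (_ : Fintype F), CharP F 2 ∧ 4 ≤ Fintype.card F ∧
        Nonempty (G ≃* Matrix.ProjectiveSpecialLinearGroup (Fin 2) F)) ∨ Cfsg.IsSuzuki G ∨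
      (∃ (F : Type) (_ : Field F) (_ : Fintype F) (q : ℕ), Fintype.card F = q ^ 2 ∧ Even q ∧ 4 ≤ q ∧
        Nonempty (G ≃* Cfsg.PSU 3 F q))) : False := by
  haveI : Fact (Nat.Prime 2) := ⟨Nat.prime_two⟩
  rcases h with ⟨F, _, _, hF, -, ⟨e⟩⟩ | ⟨-, m, -, hm⟩ | ⟨F, _, _, q, hq, hqe, hq4, ⟨e⟩⟩
  · haveI := hF
    have h3 : g ^ 3 = 1 := by rw [← D.hg3, pow_orderOf_eq_one]
    have h1 := psl_even_comm (x := e t) (g := e g)
      (by rw [show e t = e.toMonoidHom t from rfl, orderOf_injective e.toMonoidHom e.injective, D.ht])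
      (by rw [← map_pow, h3, map_one])
      (by rw [← map_mul, ← map_mul, D.tc D.g_mem_centralizer])
    have := D.hg3
    rw [(map_eq_one_iff e e.injective).1 h1, orderOf_one] at this
    omega
  · have h3 : 3 ∣ Nat.card G := D.hg3 ▸ orderOf_dvd_natCard g
    rw [hm] at h3
    have hp : 2 ^ (2 * m + 1) % 3 = 2 := by
      rw [pow_succ, pow_mul, Nat.mul_mod, Nat.pow_mod]; norm_num
    generalize 2 ^ (2 * m + 1) = q at h3 hp
    rcases (Nat.prime_three.dvd_mul).1 h3 with h | h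
    · rcases (Nat.prime_three.dvd_mul).1 h with h | h
      · have := Nat.prime_three.dvd_of_dvd_pow h
        omega
      · have h2 : (q ^ 2 + 1) % 3 = 2 := by rw [Nat.add_mod, Nat.pow_mod, hp]
        omega
    · omega
  · obtain ⟨n, hn, rfl⟩ : ∃ n, 2 ≤ n ∧ q = 2 ^ n := by
      obtain ⟨p, hp⟩ := CharP.exists F
      obtain ⟨k, hprime, hk⟩ := FiniteField.card F p
      rw [hq] at hk
      have h2p : 2 = p := (Nat.prime_dvd_prime_iff_eq Nat.prime_two hprime).1
        (Nat.prime_two.dvd_of_dvd_pow ((hqe.two_dvd.trans (dvd_pow_self q two_ne_zero)).trans hk.dvd))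
      subst h2p
      obtain ⟨j, -, rfl⟩ := (Nat.dvd_prime_pow Nat.prime_two).1
        ((dvd_pow_self q two_ne_zero).trans hk.dvd)
      refine ⟨j, ?_, rfl⟩
      by_contra hj
      have : 2 ^ j ≤ 2 ^ 1 := Nat.pow_le_pow_right (by norm_num) (by omega)
      omega
    obtain ⟨P⟩ : Nonempty (Sylow 2 (Cfsg.PSU 3 F (2 ^ n))) := inferInstance
    have hc := (Cfsg.Agent.S1141.result hn hq P).1
    rw [Sylow.card_eq_multiplicity, ← Nat.card_congr e.toEquiv, ← Sylow.card_eq_multiplicity S] at hc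
    have h8 := D.card_s_le
    have : 4 ^ 3 ≤ (2 ^ n) ^ 3 := Nat.pow_le_pow_left hq4 3
    omega

/-- The centraliser is maximal, given Bender's theorem for `G`. -/
theorem isCoatom_centralizer (hna : ∃ a b : G, a * b ≠ b * a)
    (hB : ∀ H : Subgroup G, Cfsg.IsStronglyEmbedded H →
      (∃ (F : Type) (_ : Field F) (_ : Fintype F), CharP F 2 ∧ 4 ≤ Fintype.card F ∧
        Nonempty (G ≃* Matrix.ProjectiveSpecialLinearGroup (Fin 2) F)) ∨ Cfsg.IsSuzuki G ∨
      (∃ (F : Type) (_ : Field F) (_ : Fintype F) (q : ℕ), Fintype.card F = q ^ 2 ∧ Even q ∧ 4 ≤ q ∧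
        Nonempty (G ≃* Cfsg.PSU 3 F q))) :
    IsCoatom (centralizer ({t} : Set G)) := by
  refine ⟨fun h => D.not_central hna fun x => D.tc (h ▸ mem_top x), fun M hlt => ?_⟩
  by_contra hM
  rcases D.fuse (D.s_le.trans hlt.le) (hlt.le D.g_mem_centralizer) with h | h
  · exact hlt.not_ge (D.le_of_isolated hna hlt.le h)
  · exact D.not_bender_list (hB M (D.stronglyEmbedded hlt.le hM fun s hs hs1 => by
      obtain ⟨k, hk, -, he⟩ := h s hs hs1
      exact ⟨k, hk, he⟩))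

end Data

end CfsgLib.Recognition.JankoOvergroup
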