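import Cfsg.Agent.Lib.Classical.Quat.Klein

/-!
# Centralisers of elements of odd order in `PSL(2, q)` and turns of four-groups
-/

set_option autoImplicit false
set_option linter.unusedSectionVars false
set_option backward.isDefEq.respectTransparency false

open Matrix CfsgLib.Classical
open scoped MatrixGroups

namespace CfsgLib.Recognition.JankoOvergroup

variable {F : Type*} [Field F] [Fintype F]

local notation "M2" => Matrix (Fin 2) (Fin 2) F
local notation "PSL" => ProjectiveSpecialLinearGroup (Fin 2) F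
local notation "π" => QuotientGroup.mk' (Subgroup.center SL(2, F))

/-- Two matrices commuting with the same non-scalar `2 × 2` matrix commute. -/
theorem comm_of_comm {Y M N : M2} (hY : ¬ (Y 0 1 = 0 ∧ Y 1 0 = 0 ∧ Y 0 0 = Y 1 1))
    (hM : M * Y = Y * M) (hN : N * Y = Y * N) : M * N = N * M := by
  have e1 : ∀ {A B : M2}, A * B = B * A → ∀ i j, (A * B) i j = (B * A) i j := fun h i j => by rw [h]
  have m00 := e1 hM 0 0
  have m01 := e1 hM 0 1
  have m10 := e1 hM 1 0
  have n00 := e1 hN 0 0
  have n01 := e1 hN 0 1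
  have n10 := e1 hN 1 0
  simp only [Matrix.mul_apply, Fin.sum_univ_two] at m00 m01 m10 n00 n01 n10
  have k00 : M 0 1 * N 1 0 = N 0 1 * M 1 0 := by
    by_cases hr : Y 0 1 = 0
    · by_cases hs : Y 1 0 = 0
      · have hd : Y 0 0 - Y 1 1 ≠ 0 := fun h => hY ⟨hr, hs, sub_eq_zero.1 h⟩
        simp only [hr, hs] at m01 n01
        have a1 : M 0 1 = 0 := mul_left_cancel₀ hd (by linear_combination (-1) * m01)
        have a2 : N 0 1 = 0 := mul_left_cancel₀ hd (by linear_combination (-1) * n01)
        rw [a1, a2]; ring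
      · refine mul_left_cancel₀ hs ?_
        linear_combination (N 1 0) * m00 - (M 1 0) * n00
    · refine mul_left_cancel₀ hr ?_
      linear_combination (-(M 0 1)) * n00 + (N 0 1) * m00
  have k01 : M 0 1 * (N 1 1 - N 0 0) = N 0 1 * (M 1 1 - M 0 0) := by
    by_cases hr : Y 0 1 = 0
    · simp only [hr] at m01 n01
      by_cases hd : Y 0 0 - Y 1 1 = 0
      · have hs : Y 1 0 ≠ 0 := fun h => hY ⟨hr, h, sub_eq_zero.1 hd⟩
        simp only [hr] at m00 n00
        have a1 : M 0 1 = 0 := mul_left_cancel₀ hs (by linear_combination m00)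
        have a2 : N 0 1 = 0 := mul_left_cancel₀ hs (by linear_combination n00)
        rw [a1, a2]; ring
      · have a1 : M 0 1 = 0 := mul_left_cancel₀ hd (by linear_combination (-1) * m01)
        have a2 : N 0 1 = 0 := mul_left_cancel₀ hd (by linear_combination (-1) * n01)
        rw [a1, a2]; ring
    · refine mul_left_cancel₀ hr ?_
      linear_combination (N 0 1) * m01 - (M 0 1) * n01
  have k10 : M 1 0 * (N 1 1 - N 0 0) = N 1 0 * (M 1 1 - M 0 0) := by
    by_cases hs : Y 1 0 = 0
    · simp only [hs] at m10 n10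
      by_cases hd : Y 0 0 - Y 1 1 = 0
      · have hr : Y 0 1 ≠ 0 := fun h => hY ⟨h, hs, sub_eq_zero.1 hd⟩
        simp only [hs] at m00 n00
        have a1 : M 1 0 = 0 := mul_left_cancel₀ hr (by linear_combination (-1) * m00)
        have a2 : N 1 0 = 0 := mul_left_cancel₀ hr (by linear_combination (-1) * n00)
        rw [a1, a2]; ring
      · have a1 : M 1 0 = 0 := mul_left_cancel₀ hd (by linear_combination m10)
        have a2 : N 1 0 = 0 := mul_left_cancel₀ hd (by linear_combination n10)
        rw [a1, a2]; ring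
    · refine mul_left_cancel₀ hs ?_
      linear_combination (M 1 0) * n10 - (N 1 0) * m10
  ext i j
  fin_cases i <;> fin_cases j <;> simp [Matrix.mul_apply, Fin.sum_univ_two]
  · linear_combination k00
  · linear_combination k01
  · linear_combination (-1) * k10
  · linear_combination (-1) * k00

/-- The centraliser of a non-trivial element of odd order is abelian. -/
theorem psl_odd_comm (h2 : (2 : F) ≠ 0) {y z w : PSL} (hy : Odd (orderOf y)) (hy1 : y ≠ 1)
    (hz : z * y = y * z) (hw : w * y = y * w) : z * w = w * z := by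
  obtain ⟨Y, rfl, hYm⟩ : ∃ Y : SL(2, F), π Y = y ∧ Y ^ orderOf y = 1 := by
    obtain ⟨Y, rfl⟩ := QuotientGroup.mk'_surjective (Subgroup.center SL(2, F)) y
    have h : π (Y ^ orderOf (π Y)) = 1 := by rw [map_pow, pow_orderOf_eq_one]
    rcases Quat.pi_eq_one_iff.1 h with h | h
    · exact ⟨Y, rfl, h⟩
    · exact ⟨-Y, Quat.pi_eq_iff.2 (Or.inr rfl), by rw [hy.neg_pow, h, neg_neg]⟩
  have hne : (-1 : SL(2, F)) ≠ 1 := sl2_neg_ne_one h2
  have hcomm : ∀ Z : SL(2, F), π Z * π Y = π Y * π Z → Z * Y = Y * Z := by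
    intro Z h
    rw [← map_mul, ← map_mul, Quat.pi_eq_iff] at h
    refine h.resolve_right fun e => hne ?_
    have e' : Z * Y * Z⁻¹ = -Y := by rw [e, neg_mul, mul_inv_cancel_right]
    have h1 := congrArg (· ^ orderOf (π Y)) e'
    simp only [conj_pow, hYm, hy.neg_pow, mul_one, mul_inv_cancel] at h1
    exact h1.symm
  obtain ⟨Z, rfl⟩ := QuotientGroup.mk'_surjective (Subgroup.center SL(2, F)) z
  obtain ⟨W, rfl⟩ := QuotientGroup.mk'_surjective (Subgroup.center SL(2, F)) w
  have hns : ¬ ((Y : M2) 0 1 = 0 ∧ (Y : M2) 1 0 = 0 ∧ (Y : M2) 0 0 = (Y : M2) 1 1) := by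
    rintro ⟨a, b, c⟩
    refine hy1 ((QuotientGroup.eq_one_iff _).2 (Subgroup.mem_center_iff.2 fun T => Subtype.ext ?_))
    show (T : M2) * (Y : M2) = (Y : M2) * (T : M2)
    ext i j
    fin_cases i <;> fin_cases j <;> simp [Matrix.mul_apply, Fin.sum_univ_two, a, b, c] <;> ring
  have e := comm_of_comm hns (congrArg Subtype.val (hcomm Z hz)) (congrArg Subtype.val (hcomm W hw))
  have e' : Z * W = W * Z := Subtype.ext e
  rw [← map_mul, ← map_mul, e']

/-- An element of order `3` turns every four-group. -/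
theorem psl_exists_turn (h2 : (2 : F) ≠ 0) (V : Subgroup PSL) (hV : IsKleinFour V) :
    ∃ g : PSL, orderOf g = 3 ∧ ∀ v ∈ V, g * v * g⁻¹ ∈ V := by
  obtain ⟨X, Y, h, rfl⟩ := Quat.exists_pair_of_klein h2 hV
  obtain ⟨φ, hφ, hr⟩ := Quat.exists_a4_normalizer h2 h
  haveI : Fact (Nat.Prime 3) := ⟨Nat.prime_three⟩
  obtain ⟨c, hc⟩ := exists_prime_orderOf_dvd_card' (G := alternatingGroup (Fin 4)) 3 (by
    rw [nat_card_alternatingGroup, Nat.card_eq_fintype_card, Fintype.card_fin]; decide)
  refine ⟨φ c, by rw [orderOf_injective φ hφ, hc], fun v hv => ?_⟩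
  exact (Subgroup.mem_normalizer_iff.1 (hr ⟨c, rfl⟩) v).1 hv

/-- In even characteristic an element of order prime to `2` commuting with an involution is trivial. -/
theorem psl_even_comm [CharP F 2] {x g : PSL} (hx : orderOf x = 2) (hg : g ^ 3 = 1)
    (hc : g * x = x * g) : g = 1 := by
  have hn : ∀ T : SL(2, F), -T = T := fun T => Subtype.ext (Matrix.ext fun i j => CharTwo.neg_eq _)
  have hinj : ∀ {T U : SL(2, F)}, π T = π U → T = U := fun {T U} h =>
    (Quat.pi_eq_iff.1 h).elim id fun e => e.trans (hn U)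
  obtain ⟨X, rfl⟩ := QuotientGroup.mk'_surjective (Subgroup.center SL(2, F)) x
  obtain ⟨T, rfl⟩ := QuotientGroup.mk'_surjective (Subgroup.center SL(2, F)) g
  have hT3 : T ^ 3 = 1 := hinj (by rw [map_pow, hg, map_one])
  have hXT : T * X = X * T := hinj (by rw [map_mul, map_mul, hc])
  have hX2 : X * X = 1 := hinj (by
    have h := pow_orderOf_eq_one (π X)
    rw [hx, pow_two] at h
    rw [map_mul, map_one, h])
  have hX1 : X ≠ 1 := fun e => by rw [e, map_one, orderOf_one] at hx; omega
  have two0 : (2 : F) = 0 := CharTwo.two_eq_zero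
  have e : (X : M2) * (X : M2) = 1 := congrArg Subtype.val hX2
  have c : (T : M2) * (X : M2) = (X : M2) * (T : M2) := congrArg Subtype.val hXT
  have e00 := congrFun (congrFun e 0) 0
  have e11 := congrFun (congrFun e 1) 1
  have c01 := congrFun (congrFun c 0) 1
  have c10 := congrFun (congrFun c 1) 0
  simp [Matrix.mul_apply, Fin.sum_univ_two] at e00 e11 c01 c10
  have hsq : ((X : M2) 0 0 - (X : M2) 1 1) ^ 2 = 0 := by
    linear_combination e00 - e11 + ((X : M2) 1 1 * ((X : M2) 1 1 - (X : M2) 0 0)) * two0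
  have hd : (X : M2) 0 0 = (X : M2) 1 1 := sub_eq_zero.1 (pow_eq_zero_iff two_ne_zero |>.1 hsq)
  have hns : (X : M2) 0 1 ≠ 0 ∨ (X : M2) 1 0 ≠ 0 := by
    by_contra h
    push Not at h
    obtain ⟨hb, hc'⟩ := h
    apply hX1
    rw [hb] at e00
    have h1 : (X : M2) 0 0 = 1 := by
      have : ((X : M2) 0 0 - 1) ^ 2 = 0 := by
        linear_combination e00 + (1 - (X : M2) 0 0) * two0
      exact sub_eq_zero.1 (pow_eq_zero_iff two_ne_zero |>.1 this)
    apply Subtype.ext
    ext i j
    fin_cases i <;> fin_cases j <;> simp [hb, hc', h1, ← hd]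
  have ht : (T : M2) 0 0 = (T : M2) 1 1 := by
    rcases hns with h | h
    · refine mul_left_cancel₀ h ?_
      rw [← hd] at c01
      linear_combination c01
    · refine mul_left_cancel₀ h ?_
      rw [← hd] at c10
      linear_combination (-1) * c10
  have hdet : (T : M2) 0 0 * (T : M2) 1 1 - (T : M2) 0 1 * (T : M2) 1 0 = 1 := by
    rw [← Matrix.det_fin_two]; exact T.2
  have hT2 : T * T = 1 := by
    apply Subtype.ext
    show (T : M2) * (T : M2) = 1
    ext i j
    fin_cases i <;> fin_cases j <;> simp [Matrix.mul_apply, Fin.sum_univ_two]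
    · linear_combination hdet + (T : M2) 0 0 * ht + ((T : M2) 0 1 * (T : M2) 1 0) * two0
    · linear_combination (T : M2) 0 1 * ht + ((T : M2) 0 1 * (T : M2) 1 1) * two0
    · linear_combination (T : M2) 1 0 * ht + ((T : M2) 1 0 * (T : M2) 1 1) * two0
    · linear_combination hdet - (T : M2) 1 1 * ht + ((T : M2) 0 1 * (T : M2) 1 0) * two0
  have : T = 1 := by
    rw [pow_succ, pow_two, hT2, one_mul] at hT3; exact hT3
  rw [this, map_one]

end CfsgLib.Recognition.JankoOvergroup
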