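import Cfsg.Agent.Lib.Recognition.JankoOvergroup.PSL
import Cfsg.Agent.S3206

/-!
# An involution whose centraliser is `2 × E` with `PSL(2, q) ≤ E`, abelian Sylow 2-subgroups
-/

set_option autoImplicit false
set_option linter.unusedSectionVars false
set_option linter.style.haveILetI false

open Subgroup

namespace CfsgLib.Recognition.JankoOvergroup

variable {G : Type*} [Group G] [Finite G]

/-- The data used to exclude overgroups of the centraliser of `t`. -/
structure Data (t : G) (S : Sylow 2 G) (N V : Subgroup G) (g : G) : Prop where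
  ht : orderOf t = 2
  htS : t ∈ S
  hab : ∀ P : Sylow 2 G, IsMulCommutative ↥(P : Subgroup G)
  hdS : ∀ s ∈ (S : Subgroup G), s ∈ V ∨ t * s ∈ V
  hVS : V ≤ S
  htV : t ∉ V
  hV2 : ∀ v ∈ V, v * v = 1
  hV4 : Nat.card V = 4
  hVN : V ≤ N
  hNC : N ≤ centralizer ({t} : Set G)
  hNn : ∀ c ∈ centralizer ({t} : Set G), ∀ x ∈ N, c * x * c⁻¹ ∈ N
  hCV : ∀ x ∈ N, (∀ v ∈ V, x * v = v * x) → x ∈ V
  hgN : g ∈ N
  hg3 : orderOf g = 3
  hgV : ∀ v ∈ V, g * v * g⁻¹ ∈ V
  hgfix : ∀ v ∈ V, g * v * g⁻¹ = v → v = 1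
  hcc : ∀ y ∈ N, y ≠ 1 → Odd (orderOf y) → ∀ z ∈ N, ∀ w ∈ N, z * y = y * z → w * y = y * w →
    z * w = w * z
  hO : ∀ X : Subgroup G, X ≤ centralizer ({t} : Set G) →
    (∀ c ∈ centralizer ({t} : Set G), ∀ x ∈ X, c * x * c⁻¹ ∈ X) → Odd (Nat.card X) → X = ⊥

theorem eq_one_of_odd {H : Type*} [Group H] {x : H} (hx : Odd (orderOf x)) (h2 : x * x = 1) :
    x = 1 := by
  rw [← orderOf_eq_one_iff]
  rcases (Nat.dvd_prime Nat.prime_two).1 (orderOf_dvd_of_pow_eq_one (x := x) (n := 2) (by rw [pow_two, h2])) with h | h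
  · exact h
  · rw [h] at hx; exact absurd hx (by decide)

theorem odd_orderOf {H : Type*} [Group H] [Finite H] {X : Subgroup H} (hX : Odd (Nat.card X)) {x : H}
    (hx : x ∈ X) : Odd (orderOf x) :=
  hX.of_dvd_nat (Subgroup.orderOf_dvd_natCard X hx)

theorem comm_of_square {H : Type*} [Group H] {V : Subgroup H} (hV2 : ∀ v ∈ V, v * v = 1) :
    ∀ v ∈ V, ∀ w ∈ V, v * w = w * v := by
  intro v hv w hw
  have hi : ∀ x ∈ V, x⁻¹ = x := fun x hx => inv_eq_of_mul_eq_one_right (hV2 x hx)
  have h := hi _ (mul_mem hv hw)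
  rw [mul_inv_rev, hi v hv, hi w hw] at h
  exact h.symm

theorem two_ne_zero_of_odd {F : Type*} [Field F] [Fintype F] (hFo : Odd (Fintype.card F)) :
    (2 : F) ≠ 0 := fun h => by
  obtain ⟨p, hp⟩ := CharP.exists F
  obtain ⟨n, hprime, hn⟩ := FiniteField.card F p
  have : p = 2 := (Nat.prime_dvd_prime_iff_eq hprime Nat.prime_two).1
    ((CharP.cast_eq_zero_iff F p 2).1 (by exact_mod_cast h))
  rw [hn, this] at hFo
  exact Nat.not_odd_iff_even.2 (Nat.even_pow.2 ⟨even_two, n.ne_zero⟩) hFo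

/-- An element of order `3` normalising a self-centralising four-group fixes none of its involutions. -/
theorem turn_fix {H : Type*} [Group H] [Finite H] {V N : Subgroup H} (hV2 : ∀ v ∈ V, v * v = 1)
    (hV4 : Nat.card V = 4) (hCV : ∀ x ∈ N, (∀ v ∈ V, x * v = v * x) → x ∈ V) {g : H} (hgN : g ∈ N)
    (hg3 : orderOf g = 3) (hgV : ∀ v ∈ V, g * v * g⁻¹ ∈ V) :
    ∀ v ∈ V, g * v * g⁻¹ = v → v = 1 := by
  classical
  intro v hv hfix
  by_contra hv1
  have hg1 : g ^ 3 = 1 := by rw [← hg3, pow_orderOf_eq_one]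
  have hnc : ¬ ∀ u ∈ V, g * u = u * g := fun h => by
    have h2 := orderOf_dvd_of_pow_eq_one (x := g) (n := 2) (by rw [pow_two, hV2 g (hCV g hgN h)])
    rw [hg3] at h2; norm_num at h2
  push Not at hnc
  obtain ⟨u, hu, hgu⟩ := hnc
  haveI := Fintype.ofFinite V
  have hu1 : u ≠ 1 := fun e => hgu (by rw [e, mul_one, one_mul])
  have huv : u ≠ v := fun e => hgu (by rw [e]; exact mul_inv_eq_iff_eq_mul.1 hfix)
  set u' := g * u * g⁻¹ with hu'
  have hu'V : u' ∈ V := hgV u hu
  have hne : u' ≠ u := fun e => hgu (mul_inv_eq_iff_eq_mul.1 e)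
  have hu'v : u' ≠ v := fun e => huv (mul_left_cancel (mul_right_cancel (e.trans hfix.symm)))
  have hu'1 : u' ≠ 1 := fun e => hu1 (conj_eq_one_iff.1 e)
  have hu'' : g * u' * g⁻¹ ∈ V := hgV _ hu'V
  have h2 : g * u' * g⁻¹ ≠ u' := fun e => hne (mul_left_cancel (mul_right_cancel e))
  have h2v : g * u' * g⁻¹ ≠ v := fun e => hu'v (mul_left_cancel (mul_right_cancel (e.trans hfix.symm)))
  have h21 : g * u' * g⁻¹ ≠ 1 := fun e => hu'1 (conj_eq_one_iff.1 e)
  have h2u : g * u' * g⁻¹ ≠ u := fun e => by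
    apply hne
    calc u' = g * (g ^ 3 * u * (g ^ 3)⁻¹) * g⁻¹ := by rw [hg1, hu']; group
      _ = g * (g * (g * u' * g⁻¹) * g⁻¹) * g⁻¹ := by rw [hu', pow_succ, pow_two]; group
      _ = g * u' * g⁻¹ := by rw [e, ← hu']; exact e
      _ = u := e
  have hc : ({1, ⟨v, hv⟩, ⟨u, hu⟩, ⟨u', hu'V⟩, ⟨_, hu''⟩} : Finset V).card = 5 := by
    rw [Finset.card_insert_of_notMem (by
        simp [Subtype.ext_iff, Ne.symm hv1, Ne.symm hu1, Ne.symm hu'1, Ne.symm h21]),
      Finset.card_insert_of_notMem (by simp [Subtype.ext_iff, Ne.symm huv, Ne.symm hu'v, Ne.symm h2v]),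
      Finset.card_insert_of_notMem (by simp [Subtype.ext_iff, Ne.symm hne, Ne.symm h2u]),
      Finset.card_insert_of_notMem (by simp [Subtype.ext_iff, Ne.symm h2]), Finset.card_singleton]
  have := Finset.card_le_univ ({1, ⟨v, hv⟩, ⟨u, hu⟩, ⟨u', hu'V⟩, ⟨_, hu''⟩} : Finset V)
  rw [hc, ← Nat.card_eq_fintype_card, hV4] at this
  omega

/-- For `|F| = 3` the group `N` is `V⟨g⟩`. -/
theorem decomp_twelve {N V : Subgroup G} {g : G} (hN : Nat.card N = 12) (hV4 : Nat.card V = 4)
    (hVN : V ≤ N) (hgN : g ∈ N) (hg3 : orderOf g = 3) (hgV : ∀ v ∈ V, g * v * g⁻¹ ∈ V) :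
    ∀ x ∈ N, ∃ v ∈ V, ∃ k : ℕ, x = v * g ^ k := by
  have hn : zpowers g ≤ normalizer (V : Set G) := by
    rw [zpowers_le]
    have hmap : V.map (MulAut.conj g).toMonoidHom = V := by
      refine eq_of_le_of_card_ge (by rintro _ ⟨v, hv, rfl⟩; exact hgV v hv) ?_
      rw [card_map_of_injective (MulAut.conj g).injective]
    exact mem_normalizer_iff_map_conj_eq.2 hmap
  have hle : V ⊔ zpowers g ≤ N := sup_le hVN (zpowers_le.2 hgN)
  have h4 : 4 ∣ Nat.card ↥(V ⊔ zpowers g) := hV4 ▸ card_dvd_of_le le_sup_left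
  have h3 : 3 ∣ Nat.card ↥(V ⊔ zpowers g) := by
    rw [← hg3, ← Nat.card_zpowers]; exact card_dvd_of_le le_sup_right
  have h12 := Nat.Coprime.mul_dvd_of_dvd_of_dvd (by norm_num : Nat.Coprime 4 3) h4 h3
  have heq : V ⊔ zpowers g = N := eq_of_le_of_card_ge hle (by
    rw [hN]; exact Nat.le_of_dvd Nat.card_pos h12)
  intro x hx
  rw [← heq, ← SetLike.mem_coe, coe_mul_of_right_le_normalizer_left V (zpowers g) hn] at hx
  obtain ⟨v, hv, z, hz, rfl⟩ := hx
  obtain ⟨k, rfl⟩ := mem_powers_iff_mem_zpowers.2 hz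
  exact ⟨v, hv, k, rfl⟩

universe u

/-- The data exist. -/
theorem exists_data {G : Type u} [Group G] [Finite G] [IsSimpleGroup G]
    (hab : ∀ S : Sylow 2 G, IsMulCommutative ↥(S : Subgroup G))
    (t : G) (ht : orderOf t = 2) (E N : Subgroup G)
    (hE : Cfsg.IsInternalDirectProduct (zpowers t) E (centralizer ({t} : Set G)))
    (hNE : N ≤ E) (hNn : (N.subgroupOf E).Normal) (hNc : E ⊓ centralizer (N : Set G) = ⊥)
    {F : Type} [Field F] [Fintype F] (hFo : Odd (Fintype.card F))
    (eN : N ≃* Matrix.ProjectiveSpecialLinearGroup (Fin 2) F) :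
    ∃ (S : Sylow 2 G) (V : Subgroup G) (g : G), Data t S N V g := by
  classical
  haveI : Fact (Nat.Prime 2) := ⟨Nat.prime_two⟩
  have h2 := two_ne_zero_of_odd hFo
  have hsave := hE
  obtain ⟨hTC, hEC, hcomm, hinf, hsup⟩ := hE
  set C := centralizer ({t} : Set G) with hC
  have ht2 : t * t = 1 := by rw [← pow_two, ← ht, pow_orderOf_eq_one]
  have htE : t ∉ E := fun h => by
    have : t ∈ zpowers t ⊓ E := ⟨mem_zpowers t, h⟩
    rw [hinf, mem_bot] at this
    rw [this, orderOf_one] at ht; omega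
  have hdec : ∀ c ∈ C, c ∈ E ∨ t * c ∈ E := by
    intro c hc
    rw [← hsup, ← SetLike.mem_coe, coe_mul_of_right_le_normalizer_left (zpowers t) E
      (fun x hx => centralizer_le_normalizer _ (mem_centralizer_iff.2 fun a ha => hcomm a ha x hx))]
      at hc
    obtain ⟨a, ⟨k, rfl⟩, x, hx, rfl⟩ := hc
    rcases Int.even_or_odd k with ⟨i, rfl⟩ | ⟨i, rfl⟩
    · left
      simp only
      rw [← two_mul, zpow_mul, zpow_ofNat, pow_two, ht2, one_zpow, one_mul]
      exact hx
    · right
      simp only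
      rw [zpow_add, zpow_mul, zpow_ofNat, pow_two, ht2, one_zpow, one_mul, zpow_one, ← mul_assoc,
        ht2, one_mul]
      exact hx
  have htc : ∀ c ∈ C, t * c = c * t := fun c hc => (mem_centralizer_singleton_iff.1 hc).symm
  have hNC : N ≤ C := hNE.trans hEC
  have hNconj : ∀ c ∈ C, ∀ x ∈ N, c * x * c⁻¹ ∈ N := by
    have hEconj : ∀ c ∈ E, ∀ x ∈ N, c * x * c⁻¹ ∈ N := fun c hc x hx =>
      hNn.conj_mem ⟨x, hNE hx⟩ hx ⟨c, hc⟩
    intro c hc x hx
    rcases hdec c hc with h | h
    · exact hEconj c h x hx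
    · have h1 := hEconj _ h x hx
      have hcm := htc _ (hNC h1)
      have : c * x * c⁻¹ = t⁻¹ * (t * c * x * (t * c)⁻¹) * t := by group
      rw [this, mul_assoc, ← hcm, inv_mul_cancel_left]
      exact h1
  obtain ⟨S, hS⟩ := IsPGroup.exists_le_sylow (p := 2) (P := zpowers t)
    (IsPGroup.of_card (n := 1) (by rw [Nat.card_zpowers, ht, pow_one]))
  have htS : t ∈ S := hS (mem_zpowers t)
  have hScomm : ∀ a ∈ (S : Subgroup G), ∀ b ∈ (S : Subgroup G), a * b = b * a := fun a ha b hb =>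
    congrArg Subtype.val ((hab S).is_comm.comm ⟨a, ha⟩ ⟨b, hb⟩)
  have hSC : (S : Subgroup G) ≤ C := fun s hs => mem_centralizer_singleton_iff.2 (hScomm s hs t htS)
  set V : Subgroup G := (S : Subgroup G) ⊓ N with hV
  -- `V` is a Sylow subgroup of `N`
  obtain ⟨P, hP⟩ : ∃ P : Sylow 2 N, (P : Subgroup N) = V.subgroupOf N := by
    have hVp : IsPGroup 2 (V.subgroupOf N) :=
      (S.2.to_le inf_le_left).comap_of_injective N.subtype N.subtype_injective
    obtain ⟨P, hP⟩ := hVp.exists_le_sylow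
    refine ⟨P, (eq_of_le_of_card_ge hP ?_).symm⟩
    have hPC : IsPGroup 2 (((P : Subgroup N).map N.subtype).subgroupOf C) :=
      (P.2.map _).comap_of_injective C.subtype C.subtype_injective
    obtain ⟨Q, hQ⟩ := hPC.exists_le_sylow
    obtain ⟨c, hc⟩ := MulAction.exists_smul_eq C Q (S.subtype hSC)
    have hinj : ∀ x : (P : Subgroup N), (c : G) * ((x : N) : G) * (c : G)⁻¹ ∈ V := by
      intro x
      refine ⟨?_, hNconj _ c.2 _ (x : N).2⟩
      have hxQ : (⟨((x : N) : G), hNC (x : N).2⟩ : C) ∈ (Q : Subgroup C) := hQ ⟨(x : N), x.2, rfl⟩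
      have : c * ⟨((x : N) : G), hNC (x : N).2⟩ * c⁻¹ ∈ ((S.subtype hSC : Sylow 2 C) : Subgroup C) := by
        rw [← hc]
        exact ⟨_, hxQ, rfl⟩
      exact this
    rw [Nat.card_congr (Subgroup.subgroupOfEquivOfLe (inf_le_right : V ≤ N)).toEquiv]
    exact Nat.card_le_card_of_injective (fun x => (⟨_, hinj x⟩ : V)) fun a b h =>
      Subtype.ext (Subtype.ext (mul_left_cancel (mul_right_cancel (congrArg Subtype.val h))))
  let P' : Sylow 2 (Matrix.ProjectiveSpecialLinearGroup (Fin 2) F) :=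
    P.mapSurjective (f := eN.toMonoidHom) eN.surjective
  have hP' : ∀ x : N, eN x ∈ (P' : Subgroup _) ↔ (x : G) ∈ (S : Subgroup G) := by
    intro x
    show eN x ∈ (P : Subgroup N).map eN.toMonoidHom ↔ _
    rw [show eN x = eN.toMonoidHom x from rfl, Subgroup.mem_map_iff_mem (f := eN.toMonoidHom) eN.injective, hP]
    exact ⟨fun h => h.1, fun h => ⟨h, x.2⟩⟩
  have hK' : IsKleinFour ↥(P' : Subgroup (Matrix.ProjectiveSpecialLinearGroup (Fin 2) F)) := by
    refine Cfsg.Agent.S3206.psl_sylow_klein hFo h2 P' ⟨⟨?_⟩⟩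
    rintro ⟨a, ha⟩ ⟨b, hb⟩
    obtain ⟨a, rfl⟩ := eN.surjective a
    obtain ⟨b, rfl⟩ := eN.surjective b
    exact Subtype.ext (show eN a * eN b = eN b * eN a by
      rw [← map_mul, ← map_mul]
      exact congrArg eN (Subtype.ext (hScomm _ ((hP' a).1 ha) _ ((hP' b).1 hb))))
  have hV2 : ∀ v ∈ V, v * v = 1 := fun v hv => by
    have h := Classical.Quat.klein_mul_self hK' ((hP' ⟨v, hv.2⟩).2 hv.1)
    rw [← map_mul] at h
    exact congrArg Subtype.val ((map_eq_one_iff eN eN.injective).1 h)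
  have hV4 : Nat.card V = 4 := by
    rw [← Nat.card_congr (Subgroup.subgroupOfEquivOfLe (inf_le_right : V ≤ N)).toEquiv, ← hP,
      Nat.card_congr ((P : Subgroup N).equivMapOfInjective eN.toMonoidHom eN.injective).toEquiv]
    exact hK'.card_four
  have hCV : ∀ x ∈ N, (∀ v ∈ V, x * v = v * x) → x ∈ V := fun x hx hxv => by
    have h1 : eN ⟨x, hx⟩ ∈ (P' : Subgroup _) := Cfsg.Agent.S3206.psl_centralizer_klein h2 _ hK' _ (by
      intro v hv
      obtain ⟨v, rfl⟩ := eN.surjective v
      rw [← map_mul, ← map_mul]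
      exact congrArg eN (Subtype.ext (hxv v ⟨(hP' v).1 hv, v.2⟩)))
    exact ⟨(hP' _).1 h1, hx⟩
  obtain ⟨g', hg'3, hg'V⟩ := psl_exists_turn h2 _ hK'
  obtain ⟨g, rfl⟩ := eN.surjective g'
  have hg3 : orderOf (g : G) = 3 := by
    rw [orderOf_coe, ← orderOf_injective eN.toMonoidHom eN.injective g]; exact hg'3
  have hgV : ∀ v ∈ V, (g : G) * v * (g : G)⁻¹ ∈ V := fun v hv => by
    have h := hg'V _ ((hP' ⟨v, hv.2⟩).2 hv.1)
    rw [← map_inv, ← map_mul, ← map_mul] at h
    exact ⟨(hP' _).1 h, (g * ⟨v, hv.2⟩ * g⁻¹ : N).2⟩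
  have hgfix := turn_fix hV2 hV4 hCV g.2 hg3 hgV
  have hcard : Nat.card N = Nat.card (Matrix.ProjectiveSpecialLinearGroup (Fin 2) F) :=
    Nat.card_congr eN.toEquiv
  have hF2 := Fintype.one_lt_card (α := F)
  have hcases : 3 < Fintype.card F ∨ Nat.card N = 12 := by
    by_cases h : 3 < Fintype.card F
    · exact Or.inl h
    · right
      have h3 : Fintype.card F = 3 := by obtain ⟨k, hk⟩ := hFo; omega
      have h1 := Classical.Quat.two_mul_card_psl (F := F) h2
      rw [Classical.card_sl2', h3] at h1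
      omega
  have hcentE : ∀ x ∈ E, (∀ m ∈ N, x * m = m * x) → x = 1 := fun x hx h => by
    rw [← mem_bot, ← hNc]
    exact ⟨hx, mem_centralizer_iff.2 fun m hm => (h m hm).symm⟩
  have hVcomm := comm_of_square hV2
  -- the Sylow subgroup is `⟨t⟩ × V`
  have hdS : ∀ s ∈ (S : Subgroup G), s ∈ V ∨ t * s ∈ V := by
    rcases hcases with h3 | h12
    · haveI := hNn
      obtain ⟨S', -, -, -, -, -, hS'8, -⟩ := Cfsg.Agent.S3206.structure_of_hyps hab t ht E hsave hFo h3
        (N.subgroupOf E) ⟨(Subgroup.subgroupOfEquivOfLe hNE).trans eN⟩ (by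
          rw [eq_bot_iff]
          intro x hx
          rw [mem_bot]
          exact Subtype.ext (hcentE x x.2 fun m hm => (congrArg Subtype.val
            (mem_centralizer_iff.1 hx ⟨m, hNE hm⟩ hm)).symm))
      have hS8 : Nat.card ↥(S : Subgroup G) = 8 := by
        rw [← hS'8, Sylow.card_eq_multiplicity, Sylow.card_eq_multiplicity]
      let f : V ⊕ V → (S : Subgroup G) := Sum.elim (fun v => ⟨v, v.2.1⟩)
        (fun v => ⟨t * v, mul_mem htS v.2.1⟩)
      have hf : Function.Injective f := by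
        rintro (a | a) (b | b) h
        · exact congrArg Sum.inl (Subtype.ext (Subtype.mk.inj h :))
        · exfalso
          refine htE (hNE ?_)
          have h' : (a : G) = t * b := congrArg Subtype.val h
          rw [show t = (a : G) * (b : G)⁻¹ by rw [h', mul_inv_cancel_right]]
          exact mul_mem a.2.2 (inv_mem b.2.2)
        · exfalso
          refine htE (hNE ?_)
          have h' : t * (a : G) = b := congrArg Subtype.val h
          rw [show t = (b : G) * (a : G)⁻¹ by rw [← h', mul_inv_cancel_right]]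
          exact mul_mem b.2.2 (inv_mem a.2.2)
        · exact congrArg Sum.inr (Subtype.ext (mul_left_cancel (congrArg Subtype.val h : t * (a : G) = t * b)))
      have hbij : Function.Bijective f :=
        (Nat.bijective_iff_injective_and_card f).2 ⟨hf, by rw [Nat.card_sum, hV4, hS8]⟩
      intro s hs
      obtain ⟨x, hx⟩ := hbij.2 ⟨s, hs⟩
      rcases x with v | v
      · left
        have e : (v : G) = s := congrArg Subtype.val hx
        rw [← e]; exact v.2
      · right
        have e : t * (v : G) = s := congrArg Subtype.val hx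
        rw [← e, ← mul_assoc, ht2, one_mul]; exact v.2
    · have hd := decomp_twelve h12 hV4 inf_le_right g.2 hg3 hgV
      have key : ∀ s ∈ (S : Subgroup G), s ∈ E → s ∈ V := by
        intro s hs hsE
        have hsv : ∀ v ∈ V, s * v = v * s := fun v hv => hScomm s hs v hv.1
        set d := (g : G)⁻¹ * (s * g * s⁻¹) with hd'
        have hdV : d ∈ V := by
          refine hCV _ (mul_mem (inv_mem g.2) (hNconj s (hSC hs) _ g.2)) fun v hv => ?_
          have e1 : s * g * s⁻¹ * v = g * v * (g : G)⁻¹ * (s * g * s⁻¹) := by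
            have h1 := hsv v hv
            have h2' := hsv _ (hgV v hv)
            calc s * g * s⁻¹ * v = s * g * s⁻¹ * (v * s) * s⁻¹ := by group
              _ = s * g * s⁻¹ * (s * v) * s⁻¹ := by rw [h1]
              _ = s * (g * v * (g : G)⁻¹) * g * s⁻¹ := by group
              _ = g * v * (g : G)⁻¹ * s * g * s⁻¹ := by rw [h2']
              _ = _ := by group
          rw [hd', mul_assoc, e1]; group
        obtain ⟨v', hv'⟩ : ∃ v' : V, (g : G)⁻¹ * v' * g * v' = d := by
          have hgi : ∀ v ∈ V, (g : G)⁻¹ * v * g ∈ V := fun v hv => by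
            have h3' : (g : G) ^ 3 = 1 := by rw [← hg3, pow_orderOf_eq_one]
            have e : (g : G)⁻¹ * v * g = g * (g * v * (g : G)⁻¹) * (g : G)⁻¹ := by
              have hi : (g : G)⁻¹ = g * g := inv_eq_of_mul_eq_one_right (by rw [← h3', pow_succ, pow_two, mul_assoc])
              calc (g : G)⁻¹ * v * g = (g : G)⁻¹ * v * ((g : G)⁻¹)⁻¹ := by rw [inv_inv]
                _ = g * g * v * (g * g : G)⁻¹ := by rw [hi]
                _ = _ := by group
            rw [e]; exact hgV _ (hgV v hv)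
          let f : V → V := fun v => ⟨(g : G)⁻¹ * v * g * v, mul_mem (hgi _ v.2) v.2⟩
          have hf : Function.Injective f := by
            intro a b h
            have h' : (g : G)⁻¹ * a * g * a = (g : G)⁻¹ * b * g * b := congrArg Subtype.val h
            have hab' : (g : G)⁻¹ * ((a : G) * b) * g = a * b := by
              have q1 := hgi _ a.2
              have q2 := hgi _ b.2
              calc (g : G)⁻¹ * ((a : G) * b) * g = ((g : G)⁻¹ * a * g) * ((g : G)⁻¹ * b * g) := by group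
                _ = ((g : G)⁻¹ * a * g * a) * (a * ((g : G)⁻¹ * b * g)) := by
                    rw [mul_assoc ((g : G)⁻¹ * a * g), ← mul_assoc (a : G), hV2 _ a.2, one_mul]
                _ = ((g : G)⁻¹ * b * g * b) * (((g : G)⁻¹ * b * g) * a) := by rw [h', hVcomm _ a.2 _ q2]
                _ = (b * ((g : G)⁻¹ * b * g)) * (((g : G)⁻¹ * b * g) * a) := by rw [hVcomm _ q2 _ b.2]
                _ = b * (((g : G)⁻¹ * b * g) * ((g : G)⁻¹ * b * g)) * a := by group
                _ = a * b := by rw [hV2 _ q2, mul_one, hVcomm _ b.2 _ a.2]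
            have h1 := hgfix _ (mul_mem a.2 b.2) (by
              conv_lhs => rw [← hab']
              group)
            exact Subtype.ext (by rw [eq_inv_of_mul_eq_one_left h1, inv_eq_of_mul_eq_one_right (hV2 _ b.2)])
          obtain ⟨v', hv'⟩ := (Finite.injective_iff_surjective.1 hf) ⟨d, hdV⟩
          exact ⟨v', congrArg Subtype.val hv'⟩
        set w := s * (v' : G) with hw
        have hwg : w * g = g * w := by
          have hv'i : (v' : G)⁻¹ = v' := inv_eq_of_mul_eq_one_right (hV2 _ v'.2)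
          have e : s * g = g * d * s := by rw [hd']; group
          have hgv : (g : G)⁻¹ * v' * g = d * v' := by
            rw [← hv', mul_assoc ((g : G)⁻¹ * v' * g), hV2 _ v'.2, mul_one]
          calc w * g = s * g * ((g : G)⁻¹ * v' * g) := by rw [hw]; group
            _ = g * (d * (s * ((g : G)⁻¹ * v' * g))) := by rw [e]; group
            _ = g * (d * (((g : G)⁻¹ * v' * g) * s)) := by
                rw [hsv]
                rw [hgv]; exact mul_mem hdV v'.2
            _ = g * ((d * d) * v' * s) := by rw [hgv]; simp only [mul_assoc]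
            _ = g * w := by rw [hV2 _ hdV, one_mul, hw, hsv _ v'.2]
        have hwV : ∀ v ∈ V, w * v = v * w := fun v hv =>
          hScomm w (mul_mem hs v'.2.1) v hv.1
        have hw1 : w = 1 := hcentE w (mul_mem hsE (hNE v'.2.2)) fun m hm => by
          obtain ⟨v, hv, k, rfl⟩ := hd m hm
          exact ((show Commute w v from hwV v hv).mul_right
            ((show Commute w (g : G) from hwg).pow_right k)).eq
        rw [show s = (v' : G)⁻¹ from eq_inv_of_mul_eq_one_left hw1]
        exact inv_mem v'.2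
      intro s hs
      rcases hdec s (hSC hs) with h | h
      · exact Or.inl (key s hs h)
      · exact Or.inr (key _ (mul_mem htS hs) h)
  -- odd normal subgroups of the centraliser
  have hO : ∀ X : Subgroup G, X ≤ C → (∀ c ∈ C, ∀ x ∈ X, c * x * c⁻¹ ∈ X) → Odd (Nat.card X) → X = ⊥ := by
    intro X hXC hXn hXo
    have hY : ∀ y ∈ X, y ∈ N → y = 1 := by
      intro y hyX hyN
      rcases hcases with h3 | h12
      · haveI hsimp : IsSimpleGroup N := by
          haveI : IsSimpleGroup (Matrix.ProjectiveSpecialLinearGroup (Fin 2) F) :=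
            Classical.psl_fin_isSimpleGroup le_rfl fun _ => h3
          haveI : Nontrivial N := eN.toEquiv.nontrivial
          exact IsSimpleGroup.isSimpleGroup_of_surjective eN.symm.toMonoidHom eN.symm.surjective
        have hn : (X.subgroupOf N).Normal := ⟨fun a ha b => hXn _ (hNC b.2) _ ha⟩
        rcases hsimp.eq_bot_or_eq_top_of_normal _ hn with h | h
        · have : (⟨y, hyN⟩ : N) ∈ (⊥ : Subgroup N) := h ▸ (hyX : (⟨y, hyN⟩ : N) ∈ X.subgroupOf N)
          exact congrArg Subtype.val (mem_bot.1 this)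
        · exfalso
          have hd := card_dvd_of_le (subgroupOf_eq_top.1 h)
          exact Nat.not_even_iff_odd.2 (hXo.of_dvd_nat ((hV4 ▸ card_dvd_of_le (inf_le_right : V ≤ N) : 4 ∣ Nat.card N).trans hd)) (by decide)
      · have hd := decomp_twelve h12 hV4 inf_le_right g.2 hg3 hgV
        have hVn : ∀ v ∈ V, y * v * y⁻¹ ∈ V := by
          intro v hv
          obtain ⟨u, hu, k, rfl⟩ := hd y hyN
          have hk : ∀ j : ℕ, (g : G) ^ j * v * ((g : G) ^ j)⁻¹ ∈ V := by
            intro j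
            induction j with
            | zero => simpa using hv
            | succ j ih =>
              rw [pow_succ', show (g : G) * (g : G) ^ j * v * ((g : G) * (g : G) ^ j)⁻¹ =
                g * ((g : G) ^ j * v * ((g : G) ^ j)⁻¹) * (g : G)⁻¹ by group]
              exact hgV _ ih
          rw [show u * (g : G) ^ k * v * (u * (g : G) ^ k)⁻¹ =
            u * ((g : G) ^ k * v * ((g : G) ^ k)⁻¹) * u⁻¹ by group]
          exact mul_mem (mul_mem hu (hk k)) (inv_mem hu)
        have hc : ∀ v ∈ V, y * v = v * y := by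
          intro v hv
          have h1 : y * v * y⁻¹ * v⁻¹ ∈ X := by
            rw [show y * v * y⁻¹ * v⁻¹ = y * (v * y⁻¹ * v⁻¹) by group]
            exact mul_mem hyX (hXn v (hNC hv.2) _ (inv_mem hyX))
          have h2' : y * v * y⁻¹ * v⁻¹ ∈ V := mul_mem (hVn v hv) (inv_mem hv)
          exact mul_inv_eq_iff_eq_mul.1 (mul_inv_eq_one.1
            (eq_one_of_odd (odd_orderOf hXo h1) (hV2 _ h2')))
        exact eq_one_of_odd (odd_orderOf hXo hyX) (hV2 _ (hCV y hyN hc))
    rw [eq_bot_iff]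
    intro x hx
    rw [mem_bot]
    have hxodd := odd_orderOf hXo hx
    have hxc : ∀ m ∈ N, x * m = m * x := fun m hm => by
      have h1 : x * m * x⁻¹ * m⁻¹ = 1 := hY _ (by
          rw [show x * m * x⁻¹ * m⁻¹ = x * (m * x⁻¹ * m⁻¹) by group]
          exact mul_mem hx (hXn m (hNC hm) _ (inv_mem hx)))
        (mul_mem (hNconj x (hXC hx) m hm) (inv_mem hm))
      exact mul_inv_eq_iff_eq_mul.1 (mul_inv_eq_one.1 h1)
    have hxE : x ∈ E := by
      obtain ⟨i, hi⟩ := Cfsg.Agent.S3206.odd_mem_zpowers_sq hxodd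
      rw [← hi]
      refine zpow_mem ?_ i
      rw [pow_two]
      rcases hdec x (hXC hx) with h | h
      · exact mul_mem h h
      · have : x * x = t * x * (t * x) := by
          rw [mul_assoc, ← mul_assoc x t x, ← htc x (hXC hx), mul_assoc t x x, ← mul_assoc t t,
            ht2, one_mul]
        rw [this]; exact mul_mem h h
    exact hcentE x hxE hxc
  refine ⟨S, V, g, ⟨ht, htS, hab, hdS, inf_le_left, fun h => htE (hNE h.2), hV2, hV4, inf_le_right,
    hNC, hNconj, hCV, g.2, hg3, hgV, hgfix, ?_, hO⟩⟩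
  intro y hy hy1 hyodd z hz w hw hzy hwy
  have h := psl_odd_comm h2 (y := eN ⟨y, hy⟩) (z := eN ⟨z, hz⟩) (w := eN ⟨w, hw⟩)
    (by
      rw [show eN ⟨y, hy⟩ = eN.toMonoidHom ⟨y, hy⟩ from rfl, orderOf_injective eN.toMonoidHom eN.injective,
        ← orderOf_coe]
      exact hyodd)
    (fun e => hy1 (congrArg Subtype.val ((map_eq_one_iff eN eN.injective).1 e)))
    (by rw [← map_mul, ← map_mul]; exact congrArg eN (Subtype.ext hzy))
    (by rw [← map_mul, ← map_mul]; exact congrArg eN (Subtype.ext hwy))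
  rw [← map_mul, ← map_mul] at h
  exact congrArg Subtype.val (eN.injective h)

end CfsgLib.Recognition.JankoOvergroup
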